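import Groth.Agent.LefPic.Thick
import Groth.Agent.S2946
import Groth.Agent.Props.GenPull

/-!
# Invertible modules trivial on all thickenings, under the Lefschetz condition

`LefPic.main`: if restriction along the thickenings beyond the `n`-th is injective on Picard groups
and surjective on functions, and morphisms to `O` from invertible modules are formal morphisms,
then invertible modules which agree on the `n`-th thickening are isomorphic.
-/

set_option autoImplicit false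
set_option backward.isDefEq.respectTransparency false

universe u

open CategoryTheory CategoryTheory.Limits AlgebraicGeometry Opposite TopologicalSpace
open Groth.Agent Groth.Agent.QCoh Groth.Agent.Props.GenLocus Groth.Agent.Props.GenTensor Groth.Agent.Props.GenPull
open scoped Groth.Agent.PicLaw

noncomputable section

namespace Groth.Agent.LefPic

variable {U : Scheme.{u}} (𝓙 : U.IdealSheafData)

theorem pow_le {a b : ℕ} (h : a ≤ b) : 𝓙 ^ b ≤ 𝓙 ^ a := fun V => by
  simp only [Scheme.IdealSheafData.ideal_pow, Pi.pow_apply]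
  exact Ideal.pow_le_pow_right h

/-- A section of the structure module, as a function. -/
abbrev asFun {X : Scheme.{u}} {W : X.Opens} (s : Γ(Coh.structureModule X, W)) : Γ(X, W) := s

/-- An isomorphism onto the structure sheaf takes generators to units. -/
theorem isUnit_app {N : U.Modules} (θ : N ≅ Coh.structureModule U) {W : U.Opens} {g : Γ(N, W)}
    (hg : IsGen N W g) : IsUnit (asFun (θ.hom.app W g)) := by
  obtain ⟨a, ha, -⟩ := hg.exists_eq le_rfl (θ.inv.app W (one' W))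
  rw [res_self] at ha
  have h : θ.hom.app W (θ.inv.app W (one' W)) = one' W := by
    rw [← ConcreteCategory.comp_apply, ← Scheme.Modules.Hom.comp_app, θ.inv_hom_id]; rfl
  rw [ha, Scheme.Modules.Hom.app_smul] at h
  exact IsUnit.of_mul_eq_one_right a (show a * asFun (θ.hom.app W g) = 1 from h)

section Formal

variable (n : ℕ)
  (hinj : ∀ k, n ≤ k → ∀ c : PicLoc.PicSet (𝓙 ^ (k + 2)).subscheme,
    PicLaw.pl (Scheme.IdealSheafData.inclusion (Lef.pow_succ_le 𝓙 k)) c = 1 → c = 1)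
  (hsurj : ∀ k, n ≤ k → ∀ σ : Coh.structureModule _ ⟶ (Scheme.Modules.pushforward
      (Scheme.IdealSheafData.inclusion (Lef.pow_succ_le 𝓙 k))).obj (Coh.structureModule _),
    ∃ τ, τ ≫ ClSub.unitToPush (Scheme.IdealSheafData.inclusion (Lef.pow_succ_le 𝓙 k)) = σ)
include hinj hsurj

/-- An invertible module trivial on the `n`-th thickening has a linear form invertible along the closed set. -/
theorem exists_form {D : U.Modules} (hD : PicF.IsInvertible D) (hLef : Lef.HomToFormalBijective 𝓙 D)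
    (hn : PicLaw.pl (𝓙 ^ (n + 1)).subschemeι (PicGrp.cls D hD) = 1) :
    ∃ φ : D ⟶ Coh.structureModule U, ∀ (W : U.Opens) (e : Γ(D, W)), IsGen D W e →
      ∀ y ∈ W, y ∈ (𝓙.support : Set U) → y ∈ U.basicOpen (asFun (φ.app W e)) := by
  have htriv : ∀ k, n ≤ k → PicLaw.pl (𝓙 ^ (k + 1)).subschemeι (PicGrp.cls D hD) = 1 := by
    intro k hk
    induction k, hk using Nat.le_induction with
    | base => exact hn
    | succ k hk ih =>
      refine hinj k hk _ ?_
      rw [← PicLaw.pl_comp]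
      exact (PicLaw.pl_congr (Scheme.IdealSheafData.inclusion_subschemeι (Lef.pow_succ_le 𝓙 k)) _).trans ih
  have θ : ∀ k, n ≤ k → ((Scheme.Modules.pullback (𝓙 ^ (k + 1)).subschemeι).obj D ≅
      Coh.structureModule (𝓙 ^ (k + 1)).subscheme) := fun k hk => Nonempty.some <| by
    rw [PicLaw.iso_iff (PicLoc.isInvertible_pullback _ hD) (PicLoc.isInvertible_structureModule _),
      PicLaw.cls_pullback _ hD, htriv k hk, PicLaw.cls_one]
  have hlift : ∀ k, n ≤ k → ∀ y : D ⟶ ClSub.quotMod (𝓙 ^ (k + 1)),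
      ∃ y' : D ⟶ ClSub.quotMod (𝓙 ^ (k + 2)), y' ≫ Lef.quotMap (Lef.pow_succ_le 𝓙 k) = y := by
    intro k hk y
    let j := Scheme.IdealSheafData.inclusion (Lef.pow_succ_le 𝓙 k)
    let i := (𝓙 ^ (k + 2)).subschemeι
    let adj := Scheme.Modules.pullbackPushforwardAdjunction i
    let t : (Scheme.Modules.pullback i).obj D ≅ Coh.structureModule _ := θ (k + 1) (hk.trans (Nat.le_succ k))
    let c := (Scheme.Modules.pushforwardComp j i).app (Coh.structureModule (𝓙 ^ (k + 1)).subscheme) ≪≫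
      (Scheme.Modules.pushforwardCongr (Scheme.IdealSheafData.inclusion_subschemeι (Lef.pow_succ_le 𝓙 k))).app _
    obtain ⟨τ, hτ⟩ := hsurj k hk (t.inv ≫ (adj.homEquiv _ _).symm (y ≫ c.inv))
    refine ⟨adj.homEquiv _ _ (t.hom ≫ τ), ?_⟩
    have h1 := (adj.homEquiv_naturality_right (t.hom ≫ τ) (ClSub.unitToPush j)).symm
    rw [Category.assoc, hτ, Iso.hom_inv_id_assoc, Equiv.apply_symm_apply] at h1
    show adj.homEquiv _ _ (t.hom ≫ τ) ≫ (Scheme.Modules.pushforward i).map (ClSub.unitToPush j) ≫ c.hom = y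
    rw [reassoc_of% h1, Iso.inv_hom_id, Category.comp_id]
  choose L hL using hlift
  let adj₀ := Scheme.Modules.pullbackPushforwardAdjunction (𝓙 ^ (n + 1)).subschemeι
  let z : ∀ m, D ⟶ ClSub.quotMod (𝓙 ^ (n + m + 1)) := fun m =>
    Nat.rec (motive := fun m => D ⟶ ClSub.quotMod (𝓙 ^ (n + m + 1)))
      (adj₀.homEquiv _ _ (θ n le_rfl).hom) (fun m y => L (n + m) (Nat.le_add_right n m) y) m
  have hz : ∀ m, z (m + 1) ≫ Lef.quotMap (Lef.pow_succ_le 𝓙 (n + m)) = z m := fun m => hL _ _ _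
  let y : ∀ k, D ⟶ ClSub.quotMod (𝓙 ^ (k + 1)) := fun k =>
    z k ≫ Lef.quotMap (pow_le 𝓙 (by omega : k + 1 ≤ n + k + 1))
  have hy : Lef.IsFormalHom 𝓙 D y := fun k => by
    show (z (k + 1) ≫ _) ≫ _ = z k ≫ _
    rw [Category.assoc, quotMap_comp, ← hz k, Category.assoc, quotMap_comp]
  obtain ⟨φ, hφ⟩ := hLef.2 y hy
  refine ⟨φ, fun W e he p hpW hp => ?_⟩
  have hz0 : ∀ m, z m ≫ Lef.quotMap (pow_le 𝓙 (by omega : n + 1 ≤ n + m + 1)) =
      adj₀.homEquiv _ _ (θ n le_rfl).hom := by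
    intro m
    induction m with
    | zero => rw [quotMap_refl]; exact Category.comp_id _
    | succ m ih =>
      rw [← ih, ← hz m, Category.assoc, quotMap_comp]
  have h1 : φ ≫ ClSub.toSubscheme (𝓙 ^ (n + 1)) = adj₀.homEquiv _ _ (θ n le_rfl).hom :=
    (hφ n).trans (hz0 n)
  rw [Adjunction.homEquiv_unit] at h1
  have h2 : ((𝓙 ^ (n + 1)).subschemeι.app W (φ.app W e) : Γ((𝓙 ^ (n + 1)).subscheme, _)) =
      (θ n le_rfl).hom.app _ (pb (𝓙 ^ (n + 1)).subschemeι e) :=
    congr(Scheme.Modules.Hom.app $h1 W e)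
  have hu : IsUnit ((𝓙 ^ (n + 1)).subschemeι.app W (φ.app W e)) := by
    rw [h2]; exact isUnit_app _ (isGen_pb _ he)
  obtain ⟨x, rfl⟩ : p ∈ Set.range (𝓙 ^ (n + 1)).subschemeι := by
    rwa [Scheme.IdealSheafData.range_subschemeι, Scheme.IdealSheafData.support_pow_succ]
  have hx : x ∈ (𝓙 ^ (n + 1)).subscheme.basicOpen ((𝓙 ^ (n + 1)).subschemeι.app W (φ.app W e)) := by
    rw [Scheme.basicOpen_of_isUnit _ hu]; exact hpW
  rw [← Scheme.preimage_basicOpen] at hx
  exact hx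

/-- Invertible modules agreeing on the `n`-th thickening are isomorphic. -/
theorem main (hLef : ∀ D : U.Modules, PicF.IsInvertible D → Lef.HomToFormalBijective 𝓙 D)
    {L₁ L₂ : U.Modules} (h₁ : PicF.IsInvertible L₁) (h₂ : PicF.IsInvertible L₂)
    (e : Nonempty ((Scheme.Modules.pullback (𝓙 ^ (n + 1)).subschemeι).obj L₁ ≅
      (Scheme.Modules.pullback (𝓙 ^ (n + 1)).subschemeι).obj L₂)) : Nonempty (L₁ ≅ L₂) := by
  rw [PicLaw.iso_iff h₁ h₂, ← mul_inv_eq_one]
  rw [PicLaw.iso_iff (PicLoc.isInvertible_pullback _ h₁) (PicLoc.isInvertible_pullback _ h₂),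
    PicLaw.cls_pullback _ h₁, PicLaw.cls_pullback _ h₂, ← mul_inv_eq_one, ← map_inv, ← map_mul] at e
  obtain ⟨D, hD, hd⟩ := PicLaw.exists_cls_eq (PicGrp.cls L₁ h₁ * (PicGrp.cls L₂ h₂)⁻¹)
  rw [hd] at e ⊢
  obtain ⟨M, hM, hm⟩ := PicLaw.exists_cls_eq (PicGrp.cls D hD)⁻¹
  obtain ⟨φ, hφ⟩ := exists_form 𝓙 n hinj hsurj hD (hLef D hD) e
  obtain ⟨φ', hφ'⟩ := exists_form 𝓙 n hinj hsurj hM (hLef M hM) (by rw [← hm, map_inv, e, inv_one])
  obtain ⟨ε⟩ : Nonempty (CohB1.tensorMod D M ≅ Coh.structureModule U) := by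
    rw [PicLaw.iso_iff (PicLaw.isInvertible_tensor hD hM) (PicLoc.isInvertible_structureModule _),
      PicLaw.cls_tensor hD hM, ← hm, mul_inv_cancel, PicLaw.cls_one]
  let Idx := {i : PicLaw.Pair D M // ε.hom.app i.U (tmul i.e i.f) = one' i.U}
  have hcov : ∀ x : U, ∃ i : Idx, x ∈ i.1.U := fun x => by
    obtain ⟨W, a, b, hx, ha, hb⟩ := PicLaw.exists_isGen_pair hD hM x
    obtain ⟨c, hc⟩ := isUnit_app ε (isGen_tmul ha hb)
    refine ⟨⟨⟨W, ((c⁻¹ : Γ(U, W)ˣ) : Γ(U, W)) • a, b, ha.smul_unit (Units.isUnit _), hb⟩, ?_⟩, hx⟩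
    show ε.hom.app W (tmul (((c⁻¹ : Γ(U, W)ˣ) : Γ(U, W)) • a) b) = one' W
    rw [tmul_smul_left, Scheme.Modules.Hom.app_smul]
    show ((c⁻¹ : Γ(U, W)ˣ) : Γ(U, W)) * asFun (ε.hom.app W (tmul a b)) = 1
    rw [← hc]
    exact c.inv_mul
  let σi : ∀ i : Idx, Γ(D, i.1.U) := fun i => asFun (φ'.app i.1.U i.1.f) • i.1.e
  obtain ⟨σ, hσ⟩ := exists_glue D (U := fun i : Idx => i.1.U) (fun _ => le_top)
    (fun x _ => Opens.mem_iSup.mpr (hcov x)) σi fun i j => by
      set hi : i.1.U ⊓ j.1.U ≤ i.1.U := inf_le_left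
      set hj : i.1.U ⊓ j.1.U ≤ j.1.U := inf_le_right
      obtain ⟨a, ha, -⟩ := i.1.he.exists_eq hi (res D hj j.1.e)
      obtain ⟨b, hb, -⟩ := i.1.hf.exists_eq hi (res M hj j.1.f)
      have hab : b * a = 1 := by
        have h1 : res _ hj (ε.hom.app j.1.U (tmul j.1.e j.1.f)) =
            (b * a) • res _ hi (ε.hom.app i.1.U (tmul i.1.e i.1.f)) := by
          rw [← app_res, ← app_res, res_tmul, res_tmul, ha, hb, tmul_smul_left, tmul_smul_right, smul_smul,
            Scheme.Modules.Hom.app_smul, mul_comm]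
        rw [i.2, j.2, PicLaw.res_one', PicLaw.res_one'] at h1
        exact (h1.trans (mul_one (b * a : Γ(U, _)))).symm
      show res D hi (σi i) = res D hj (σi j)
      simp only [σi]
      rw [res_smul, res_smul]
      change asFun (res (Coh.structureModule U) hi (φ'.app i.1.U i.1.f)) • _ =
        asFun (res (Coh.structureModule U) hj (φ'.app j.1.U j.1.f)) • _
      rw [← app_res, ← app_res, ha, hb, Scheme.Modules.Hom.app_smul, smul_smul]
      congr 1
      change asFun (φ'.app _ _) = b * asFun (φ'.app _ _) * a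
      rw [mul_comm b, mul_assoc, hab, mul_one]
  let f : Γ(U, ⊤) := φ.app ⊤ σ
  have hf : ∀ i : Idx, rres (le_top : i.1.U ≤ ⊤) f =
      asFun (φ'.app i.1.U i.1.f) * asFun (φ.app i.1.U i.1.e) := fun i => by
    refine ((app_res φ le_top σ).symm.trans ?_)
    rw [hσ i, Scheme.Modules.Hom.app_smul]
    rfl
  have hY : (𝓙.support : Set U) ⊆ (U.basicOpen f : Set U) := fun y hy => by
    obtain ⟨i, hi⟩ := hcov y
    have h1 : y ∈ U.basicOpen (rres (le_top : i.1.U ≤ ⊤) f) := by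
      rw [hf i, Scheme.basicOpen_mul]
      exact ⟨hφ' _ _ i.1.hf y hi hy, hφ _ _ i.1.he y hi hy⟩
    rw [show rres (le_top : i.1.U ≤ ⊤) f = U.presheaf.map (homOfLE le_top).op f from rfl,
      Scheme.basicOpen_res] at h1
    exact h1.2
  have hk : ∀ k, IsUnit ((𝓙 ^ (k + 1)).subschemeι.appTop f) := fun k => by
    refine RingedSpace.isUnit_of_isUnit_germ (𝓙 ^ (k + 1)).subscheme.toSheafedSpace ⊤ _ fun x _ => ?_
    have hx : x ∈ (𝓙 ^ (k + 1)).subscheme.basicOpen ((𝓙 ^ (k + 1)).subschemeι.appTop f) := by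
      rw [S2946.mem_basicOpen_map]
      apply hY
      have := Set.mem_range_self (f := (𝓙 ^ (k + 1)).subschemeι) x
      rwa [Scheme.IdealSheafData.range_subschemeι, Scheme.IdealSheafData.support_pow_succ] at this
    exact (Scheme.mem_basicOpen _ _ x (show x ∈ (⊤ : Opens _) from trivial)).1 hx
  choose g hg using fun k => (hk k).exists_right_inv
  let yg : ∀ k, Coh.structureModule U ⟶ ClSub.quotMod (𝓙 ^ (k + 1)) := fun k =>
    homOfSec (L := ClSub.quotMod (𝓙 ^ (k + 1))) (g k)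
  have hyg : Lef.IsFormalHom 𝓙 (Coh.structureModule U) yg := fun k => by
    refine S2946.hom_ext_one _ _ ?_
    rw [Scheme.Modules.Hom.comp_app, ConcreteCategory.comp_apply, S2946.app_one_homOfSec, S2946.app_one_homOfSec]
    have hc : (Scheme.IdealSheafData.inclusion (Lef.pow_succ_le 𝓙 k)).appTop
        ((𝓙 ^ (k + 2)).subschemeι.appTop f) = (𝓙 ^ (k + 1)).subschemeι.appTop f := by
      rw [← ConcreteCategory.comp_apply, ← Scheme.Hom.comp_appTop, Scheme.IdealSheafData.inclusion_subschemeι]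
    have h1 := congrArg (Scheme.IdealSheafData.inclusion (Lef.pow_succ_le 𝓙 k)).appTop (hg (k + 1))
    rw [map_mul, map_one, hc] at h1
    exact (S2946.quotMap_app_top (Lef.pow_succ_le 𝓙 k) (g (k + 1))).trans
      ((hk k).mul_left_cancel (h1.trans (hg k).symm))
  have hO := hLef _ (PicLoc.isInvertible_structureModule U)
  obtain ⟨ψ, hψ⟩ := hO.2 yg hyg
  let a : Γ(U, ⊤) := ψ.app ⊤ (1 : Γ(U, ⊤))
  have ha : ∀ k, (𝓙 ^ (k + 1)).subschemeι.appTop a = g k := fun k => by
    have := congrArg (fun χ : Coh.structureModule U ⟶ ClSub.quotMod (𝓙 ^ (k + 1)) =>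
      χ.app ⊤ (1 : Γ(U, ⊤))) (hψ k)
    exact (S2946.toSubscheme_app_top _ a ψ rfl).symm.trans (this.trans (S2946.app_one_homOfSec _))
  have hfu : IsUnit f := IsUnit.of_mul_eq_one a (S2946.sep_of_bijective 𝓙 hO _ 1 fun k => by
    rw [map_mul, map_one, ha, hg])
  have hgen : IsGen D ⊤ σ := IsGen.of_local fun x _ => by
    obtain ⟨i, hi⟩ := hcov x
    refine ⟨i.1.U, le_top, hi, ?_⟩
    rw [hσ i]
    simp only [σi]
    refine i.1.he.smul_unit (isUnit_of_mul_isUnit_left (y := asFun (φ.app i.1.U i.1.e)) ?_)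
    rw [← hf i]
    exact hfu.map (rres (le_top : i.1.U ≤ ⊤)).hom
  rw [← PicLaw.cls_one, ← PicLaw.iso_iff hD (PicLoc.isInvertible_structureModule U)]
  exact PicLaw.nonempty_iso_of_transition (fun _ : PUnit.{1} => (⊤ : U.Opens))
    (fun _ => ⟨⟨⟩, trivial⟩) (fun _ => σ) (fun _ => hgen) (fun _ => one' ⊤) (fun _ => isGen_one ⊤)
    fun _ _ V hi hj => ⟨1, (one_smul _ _).symm, (one_smul _ _).symm⟩

end Formal

end Groth.Agent.LefPic
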