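import Groth.Agent.LefPic.Formal
import Groth.Agent.ProjForm.Unit
import Groth.Agent.VBLib.Basic
import Groth.Prelude.Def_LefX

/-!
# Algebraisation of an invertible module on a thickening, and consequences

`LefPic.exists_algebraization` (surjectivity onto `Pic Y_n` from the neighbourhoods of `Y`) and
`LefPic.eq_one_of_thick` (injectivity).
-/

set_option autoImplicit false
set_option backward.isDefEq.respectTransparency false

universe u

open CategoryTheory CategoryTheory.Limits AlgebraicGeometry Opposite TopologicalSpace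
open Groth.Agent Groth.Agent.Props.GenLocus Groth.Agent.Props.GenPull
open scoped Groth.Agent.PicLaw

noncomputable section

namespace Groth.Agent.LefPic

variable {X : Scheme.{u}} (𝓘 : X.IdealSheafData)

theorem incl_comp {I J K : X.IdealSheafData} (h₁ : I ≤ J) (h₂ : J ≤ K) :
    Scheme.IdealSheafData.inclusion h₂ ≫ Scheme.IdealSheafData.inclusion h₁ =
      Scheme.IdealSheafData.inclusion (h₁.trans h₂) := by
  rw [← cancel_mono I.subschemeι, Category.assoc, Scheme.IdealSheafData.inclusion_subschemeι,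
    Scheme.IdealSheafData.inclusion_subschemeι, Scheme.IdealSheafData.inclusion_subschemeι]

/-- Transport of a base change isomorphism around a commutative square. -/
def squareIso {A B C D : Scheme.{u}} (a : A ⟶ B) (b : B ⟶ D) (c : A ⟶ C) (d : C ⟶ D) (h : a ≫ b = c ≫ d)
    {M : D.Modules} {N : C.Modules} (θ : (Scheme.Modules.pullback d).obj M ≅ N) :
    (Scheme.Modules.pullback a).obj ((Scheme.Modules.pullback b).obj M) ≅ (Scheme.Modules.pullback c).obj N :=
  (Scheme.Modules.pullbackComp a b).app M ≪≫ (Scheme.Modules.pullbackCongr h).app M ≪≫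
    (Scheme.Modules.pullbackComp c d).symm.app M ≪≫ (Scheme.Modules.pullback c).mapIso θ

theorem exists_toNhd (W : X.Opens) (hW : (𝓘.support : Set X) ⊆ (W : Set X)) (k : ℕ) :
    ∃ g : (𝓘 ^ (k + 1)).subscheme ⟶ W, g ≫ W.ι = (𝓘 ^ (k + 1)).subschemeι := by
  have h : Set.range (𝓘 ^ (k + 1)).subschemeι ⊆ Set.range W.ι := by
    rw [Scheme.IdealSheafData.range_subschemeι, Scheme.IdealSheafData.support_pow_succ, Scheme.Opens.range_ι]
    exact hW
  exact ⟨IsOpenImmersion.lift W.ι _ h, IsOpenImmersion.lift_fac _ _ h⟩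

/-- The thickening inside an open neighbourhood, compared with the thickening. -/
theorem exists_compare (W : X.Opens) (hW : (𝓘.support : Set X) ⊆ (W : Set X)) (k : ℕ)
    (g : (𝓘 ^ (k + 1)).subscheme ⟶ W) (hg : g ≫ W.ι = (𝓘 ^ (k + 1)).subschemeι) :
    ∃ q : ((𝓘.comap W.ι) ^ (k + 1)).subscheme ⟶ (𝓘 ^ (k + 1)).subscheme,
      IsIso q ∧ q ≫ g = ((𝓘.comap W.ι) ^ (k + 1)).subschemeι := by
  obtain ⟨hc, hker⟩ := thick_ker 𝓘 W hW k
  let a := ((𝓘.comap W.ι) ^ (k + 1)).subschemeι ≫ W.ι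
  haveI : IsClosedImmersion a := hc
  let q := IsClosedImmersion.lift (𝓘 ^ (k + 1)).subschemeι a
    (by rw [Scheme.IdealSheafData.ker_subschemeι]; exact hker.ge)
  have hq : q ≫ (𝓘 ^ (k + 1)).subschemeι = a := IsClosedImmersion.lift_fac _ _ _
  haveI : IsIso q := IsClosedImmersion.isIso_of_ker_eq a (𝓘 ^ (k + 1)).subschemeι q hq
    (by rw [Scheme.IdealSheafData.ker_subschemeι]; exact hker)
  exact ⟨q, inferInstance, by rw [← cancel_mono W.ι, Category.assoc, hg, hq]⟩

/-- A class on a neighbourhood of `Y` which is trivial on a thickening is trivial. -/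
theorem eq_one_of_thick (h : Lef.LefCond X 𝓘) (p : ℕ)
    (hH1 : ∀ n : ℕ, p ≤ n → Subsingleton (Coh.HH X (kernel (Lef.quotMap (Lef.pow_succ_le 𝓘 n))) 1))
    (W : X.Opens) (hW : (𝓘.support : Set X) ⊆ (W : Set X)) (n : ℕ) (hn : p ≤ n)
    (c : PicLoc.PicSet (W : Scheme.{u}))
    (hc : PicLaw.pl ((𝓘.comap W.ι) ^ (n + 1)).subschemeι c = 1) : c = 1 := by
  obtain ⟨L, hL, rfl⟩ := PicLaw.exists_cls_eq c
  rw [← PicLaw.cls_one, ← PicLaw.iso_iff hL (PicLoc.isInvertible_structureModule _)]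
  refine main (𝓘.comap W.ι) n (fun k hk => (step 𝓘 W hW k (hH1 k (hn.trans hk))).1)
    (fun k hk => (step 𝓘 W hW k (hH1 k (hn.trans hk))).2)
    (fun D hD => h W hW D (ProjForm.isFinLocFree_of_isInvertible hD)) hL
    (PicLoc.isInvertible_structureModule _) ?_
  rw [PicLaw.iso_iff (PicLoc.isInvertible_pullback _ hL)
    (PicLoc.isInvertible_pullback _ (PicLoc.isInvertible_structureModule _)),
    PicLaw.cls_pullback _ hL, hc, PicLaw.cls_pullback _ (PicLoc.isInvertible_structureModule _),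
    PicLaw.cls_one, map_one]

/-- Generators of a finite locally free module whose pullback is invertible. -/
theorem exists_isGen_of_pullback {A B : Scheme.{u}} (g : A ⟶ B) {E : B.Modules} (hE : FlatMod.IsFinLocFree E)
    (hgE : PicF.IsInvertible ((Scheme.Modules.pullback g).obj E)) (x : A) :
    ∃ (W : B.Opens) (e : Γ(E, W)), g x ∈ W ∧ IsGen E W e := by
  obtain ⟨W, r, hx, ⟨φ⟩⟩ := hE (g x)
  obtain ⟨e, he⟩ := VBLib.exists_isFrame_of_iso φ
  obtain ⟨T, s, hxT, hs⟩ := exists_isGen hgE x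
  have h1 := (he.pullback g).stalkComb_bijective x hx
  have h2 := ((isGen_iff_isFrame s).mp hs).stalkComb_bijective x hxT
  have hr : r = 1 := by
    have h3 := LinearEquiv.finrank_eq ((LinearEquiv.ofBijective _ h1).trans (LinearEquiv.ofBijective _ h2).symm)
    rwa [Module.finrank_fin_fun, Module.finrank_fin_fun] at h3
  subst hr
  refine ⟨W, e 0, hx, (isGen_iff_isFrame _).mpr ?_⟩
  rwa [show (fun _ : Fin 1 => e 0) = e from funext fun i => by rw [Subsingleton.elim i 0]]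

/-- Under the effective Lefschetz condition, classes on a thickening extend to a neighbourhood. -/
theorem exists_algebraization (h : LefX.LeffCond X 𝓘) (p : ℕ)
    (hH2 : ∀ n : ℕ, p ≤ n → Subsingleton (Coh.HH X (kernel (Lef.quotMap (Lef.pow_succ_le 𝓘 n))) 2))
    (n : ℕ) (hn : p ≤ n) (c : PicLoc.PicSet (𝓘 ^ (n + 1)).subscheme) :
    ∃ V : X.Opens, (𝓘.support : Set X) ⊆ (V : Set X) ∧ ∃ d : PicLoc.PicSet (V : Scheme.{u}),
      ∀ g : (𝓘 ^ (n + 1)).subscheme ⟶ V, g ≫ V.ι = (𝓘 ^ (n + 1)).subschemeι → PicLaw.pl g d = c := by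
  choose G hG using fun (m : ℕ) (a : PicLoc.PicSet (𝓘 ^ (n + m + 1)).subscheme) =>
    surj_step 𝓘 (n + m) (hH2 _ (hn.trans (Nat.le_add_right n m))) a
  let z : ∀ m, PicLoc.PicSet (𝓘 ^ (n + m + 1)).subscheme := fun m =>
    Nat.rec (motive := fun m => PicLoc.PicSet (𝓘 ^ (n + m + 1)).subscheme) c (fun m a => G m a) m
  have hz : ∀ m, PicLaw.pl (Scheme.IdealSheafData.inclusion (Lef.pow_succ_le 𝓘 (n + m))) (z (m + 1)) = z m :=
    fun m => hG m _
  choose M hM hMz using fun m => PicLaw.exists_cls_eq (z m)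
  have θ : ∀ m, (Scheme.Modules.pullback (Scheme.IdealSheafData.inclusion (Lef.pow_succ_le 𝓘 (n + m)))).obj
      (M (m + 1)) ≅ M m := fun m => Nonempty.some <| by
    rw [PicLaw.iso_iff (PicLoc.isInvertible_pullback _ (hM (m + 1))) (hM m), PicLaw.cls_pullback _ (hM (m + 1)),
      ← hMz, ← hMz]
    exact hz m
  have hle : ∀ k, 𝓘 ^ (n + k + 1) ≤ 𝓘 ^ (k + 1) := fun k => pow_le 𝓘 (by omega)
  let inc := fun k => Scheme.IdealSheafData.inclusion (hle k)
  have hinc : ∀ k, Scheme.IdealSheafData.inclusion (FSch.pow_succ_le X 𝓘 k) ≫ inc (k + 1) =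
      inc k ≫ Scheme.IdealSheafData.inclusion (Lef.pow_succ_le 𝓘 (n + k)) := fun k =>
    (incl_comp (hle (k + 1)) (FSch.pow_succ_le X 𝓘 k)).trans
      (incl_comp (Lef.pow_succ_le 𝓘 (n + k)) (hle k)).symm
  let 𝔐 : FSch.ModSys (FSch.completionAlong X 𝓘) :=
    { F := fun k => (Scheme.Modules.pullback (inc k)).obj (M k)
      e := fun k => squareIso (B := (𝓘 ^ (k + 1 + 1)).subscheme) (D := (𝓘 ^ (n + (k + 1) + 1)).subscheme)
        (Scheme.IdealSheafData.inclusion (FSch.pow_succ_le X 𝓘 k)) (inc (k + 1)) (inc k)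
        (Scheme.IdealSheafData.inclusion (Lef.pow_succ_le 𝓘 (n + k))) (hinc k) (θ k) }
  obtain ⟨U, E, hU, hE, ⟨ε⟩⟩ := h.2 𝔐 fun k =>
    ProjForm.isFinLocFree_of_isInvertible (PicLoc.isInvertible_pullback _ (hM k))
  have hlev : ∀ (k : ℕ) (g : (𝓘 ^ (k + 1)).subscheme ⟶ U), g ≫ U.ι = (𝓘 ^ (k + 1)).subschemeι →
      Nonempty ((Scheme.Modules.pullback g).obj E ≅ (Scheme.Modules.pullback (inc k)).obj (M k)) := fun k g hg => by
    have e1 : (Scheme.Modules.pullback (𝓘 ^ (k + 1)).subschemeι).obj ((Scheme.Modules.pushforward U.ι).obj E) ≅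
        (Scheme.Modules.pullback (inc k)).obj (M k) :=
      { hom := (ε.hom).app k
        inv := (ε.inv).app k
        hom_inv_id := congrArg (fun φ : FSch.ModSys.Hom _ _ => φ.app k) ε.hom_inv_id
        inv_hom_id := congrArg (fun φ : FSch.ModSys.Hom _ _ => φ.app k) ε.inv_hom_id }
    let adj := Scheme.Modules.pullbackPushforwardAdjunction U.ι
    exact ⟨(Scheme.Modules.pullback g).mapIso (asIso (adj.counit.app E)).symm ≪≫
      (Scheme.Modules.pullbackComp g U.ι).app _ ≪≫ (Scheme.Modules.pullbackCongr hg).app _ ≪≫ e1⟩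
  obtain ⟨g₀, hg₀⟩ := exists_toNhd 𝓘 U hU n
  obtain ⟨ψ⟩ := hlev n g₀ hg₀
  have hgE : PicF.IsInvertible ((Scheme.Modules.pullback g₀).obj E) :=
    PicCl.isInvertible_of_iso ψ.symm (PicLoc.isInvertible_pullback _ (hM n))
  let V₀ : (U : Scheme.{u}).Opens := sSup {W | ∃ e : Γ(E, W), IsGen E W e}
  let V : X.Opens := U.ι ''ᵁ V₀
  have hVU : V ≤ U := fun x hx => by
    obtain ⟨y, -, rfl⟩ := hx
    exact y.2
  have hYV : (𝓘.support : Set X) ⊆ (V : Set X) := fun y hy => by
    obtain ⟨x, rfl⟩ : y ∈ Set.range (𝓘 ^ (n + 1)).subschemeι := by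
      rwa [Scheme.IdealSheafData.range_subschemeι, Scheme.IdealSheafData.support_pow_succ]
    obtain ⟨W, e, hxW, he⟩ := exists_isGen_of_pullback g₀ hE hgE x
    exact ⟨g₀ x, Opens.mem_sSup.mpr ⟨W, ⟨e, he⟩, hxW⟩, by rw [← hg₀]; rfl⟩
  let i := X.homOfLE hVU
  have hL : PicF.IsInvertible ((Scheme.Modules.pullback i).obj E) :=
    AmpleLib.isInvertible_of_exists_isGen fun x => by
      have hx : x.1 ∈ V := x.2
      obtain ⟨y, hy, hyx⟩ := hx
      obtain ⟨W, ⟨e, he⟩, hyW⟩ := Opens.mem_sSup.mp hy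
      refine ⟨i ⁻¹ᵁ W, pb i e, ?_, isGen_pb i he⟩
      show i x ∈ W
      have : i x = y := U.ι.isOpenEmbedding.injective (by
        rw [← Scheme.Hom.comp_apply, Scheme.homOfLE_ι]; exact hyx.symm)
      rw [this]
      exact hyW
  refine ⟨V, hYV, PicGrp.cls _ hL, fun g hg => ?_⟩
  rw [← PicLaw.cls_pullback g hL]
  obtain ⟨φ⟩ := hlev n (g ≫ i) (by rw [Category.assoc, Scheme.homOfLE_ι, hg])
  rw [(PicLaw.iso_iff (PicLoc.isInvertible_pullback g hL) (PicLoc.isInvertible_pullback (inc n) (hM n))).1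
    ⟨(Scheme.Modules.pullbackComp g i).app E ≪≫ φ⟩, PicLaw.cls_pullback _ (hM n), ← hMz n]
  have hdown : ∀ m, PicLaw.pl (Scheme.IdealSheafData.inclusion (pow_le 𝓘 (by omega : n + 1 ≤ n + m + 1)))
      (z m) = c := by
    intro m
    induction m with
    | zero =>
      refine Eq.trans (PicLaw.pl_congr ?_ _) (PicLaw.pl_id c)
      rw [← cancel_mono (𝓘 ^ (n + 1)).subschemeι, Category.id_comp]
      exact Scheme.IdealSheafData.inclusion_subschemeι _
    | succ m ih =>
      refine Eq.trans ?_ ih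
      conv_rhs => rw [← hz m, ← PicLaw.pl_comp]
      exact PicLaw.pl_congr (incl_comp _ _).symm _
  exact hdown n

end Groth.Agent.LefPic
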