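import Groth.Agent.PicLaw.Calc
import Groth.Agent.S2831
import Groth.Prelude.Def_Formal2

/-!
# Restriction of Picard groups across parafactorial closed sets
-/

set_option autoImplicit false
set_option backward.isDefEq.respectTransparency false

universe u

open CategoryTheory CategoryTheory.Limits AlgebraicGeometry Opposite TopologicalSpace
open Groth.Agent
open scoped Groth.Agent.PicLaw

noncomputable section

namespace Groth.Agent.LefPic

variable {X Y : Scheme.{u}}

theorem pl_bijective_of_isIso (f : X ⟶ Y) [IsIso f] : Function.Bijective (PicLaw.pl f) := by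
  refine ⟨fun a b h => ?_, fun a => ⟨PicLaw.pl (inv f) a, ?_⟩⟩
  · have := congrArg (PicLaw.pl (inv f)) h
    rwa [← PicLaw.pl_comp, ← PicLaw.pl_comp, PicLaw.pl_congr (IsIso.inv_hom_id f) a,
      PicLaw.pl_congr (IsIso.inv_hom_id f) b, PicLaw.pl_id, PicLaw.pl_id] at this
  · rw [← PicLaw.pl_comp, PicLaw.pl_congr (IsIso.hom_inv_id f), PicLaw.pl_id]

/-- A restriction which is an equivalence on invertible modules is bijective on Picard groups. -/
theorem pl_bijective_of_invRestrictEquiv (j : X ⟶ Y) [IsOpenImmersion j] (h : ParaF.InvRestrictEquiv j) :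
    Function.Bijective (PicLaw.pl j) := by
  let R := Scheme.Modules.restrictFunctor j
  let c := Scheme.Modules.restrictFunctorIsoPullback j
  refine ⟨fun a b hab => ?_, fun a => ?_⟩
  · obtain ⟨L, hL, rfl⟩ := PicLaw.exists_cls_eq a
    obtain ⟨L', hL', rfl⟩ := PicLaw.exists_cls_eq b
    rw [← PicLaw.cls_pullback j hL, ← PicLaw.cls_pullback j hL',
      ← PicLaw.iso_iff (PicLoc.isInvertible_pullback _ hL) (PicLoc.isInvertible_pullback _ hL')] at hab
    obtain ⟨e⟩ := hab
    let e' : R.obj L ≅ R.obj L' := c.app L ≪≫ e ≪≫ (c.app L').symm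
    obtain ⟨f, hf⟩ := (h.1 L L' hL hL').2 e'.hom
    obtain ⟨g, hg⟩ := (h.1 L' L hL' hL).2 e'.inv
    simp only at hf hg
    refine (PicLaw.iso_iff hL hL').1 ⟨⟨f, g, (h.1 L L hL hL).1 ?_, (h.1 L' L' hL' hL').1 ?_⟩⟩
    · show R.map (f ≫ g) = R.map (𝟙 L)
      rw [R.map_comp, hf, hg, R.map_id, Iso.hom_inv_id]
    · show R.map (g ≫ f) = R.map (𝟙 L')
      rw [R.map_comp, hf, hg, R.map_id, Iso.inv_hom_id]
  · obtain ⟨L₀, hL₀, rfl⟩ := PicLaw.exists_cls_eq a
    obtain ⟨L, hL, ⟨e⟩⟩ := h.2 L₀ hL₀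
    refine ⟨PicGrp.cls L hL, ?_⟩
    rw [← PicLaw.cls_pullback j hL]
    exact (PicLaw.iso_iff (PicLoc.isInvertible_pullback _ hL) hL₀).1 ⟨(c.app L).symm ≪≫ e⟩

/-- Restriction to an open whose complement has parafactorial local rings is bijective on Picard groups. -/
theorem pl_bijective_of_parafactorial [IsLocallyNoetherian X] (U : X.Opens)
    (h : ∀ x : X, x ∉ U → ParaF.IsParafactorialLocalRing (X.presheaf.stalk x)) :
    Function.Bijective (PicLaw.pl U.ι) := by
  let Z : Closeds X := ⟨(U : Set X)ᶜ, U.isOpen.isClosed_compl⟩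
  have hp : ParaF.IsParafactorialPair X Z := (S2831.result X Z).mpr fun y hy => h y hy
  have hle : U ≤ (⊤ : X.Opens) ⊓ Z.compl := fun x hx => ⟨trivial, fun hx' => hx' hx⟩
  have hge : (⊤ : X.Opens) ⊓ Z.compl ≤ U := fun x hx => not_not.mp hx.2
  haveI : IsIso (X.homOfLE hle) := ⟨X.homOfLE hge, by simp, by simp⟩
  have e : X.homOfLE hle ≫ X.homOfLE (inf_le_left : (⊤ : X.Opens) ⊓ Z.compl ≤ ⊤) ≫ (⊤ : X.Opens).ι = U.ι := by
    simp
  have hcomp : ⇑(PicLaw.pl U.ι) = ⇑(PicLaw.pl (X.homOfLE hle)) ∘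
      ⇑(PicLaw.pl (X.homOfLE (inf_le_left : (⊤ : X.Opens) ⊓ Z.compl ≤ ⊤))) ∘ ⇑(PicLaw.pl (⊤ : X.Opens).ι) := by
    funext c
    simp only [Function.comp_apply]
    rw [← PicLaw.pl_comp, ← PicLaw.pl_comp]
    exact (PicLaw.pl_congr ((Category.assoc _ _ _).trans e) c).symm
  haveI : IsIso (⊤ : X.Opens).ι := inferInstanceAs (IsIso X.topIso.hom)
  rw [hcomp]
  exact (pl_bijective_of_isIso _).comp ((pl_bijective_of_invRestrictEquiv _ (hp ⊤)).comp (pl_bijective_of_isIso _))

/-- Trivial kernel on classes, in the elementwise form. -/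
theorem picPullbackInjective_of (g : X ⟶ Y) (h : ∀ c, PicLaw.pl g c = 1 → c = 1) :
    Formal2.PicPullbackInjective g := fun L hL e => by
  rw [PicLaw.iso_iff hL (PicLoc.isInvertible_structureModule _), PicLaw.cls_one]
  refine h _ ?_
  rw [← PicLaw.cls_pullback g hL, ← PicLaw.cls_one]
  exact (PicLaw.iso_iff (PicLoc.isInvertible_pullback _ hL) (PicLoc.isInvertible_structureModule _)).1 e

/-- Surjectivity on classes, in the elementwise form. -/
theorem picPullbackSurjective_of (g : X ⟶ Y) (h : Function.Surjective (PicLaw.pl g)) :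
    Formal2.PicPullbackSurjective g := fun L' hL' => by
  obtain ⟨d, hd⟩ := h (PicGrp.cls L' hL')
  obtain ⟨L, hL, rfl⟩ := PicLaw.exists_cls_eq d
  exact ⟨L, hL, (PicLaw.iso_iff (PicLoc.isInvertible_pullback _ hL) hL').2 ((PicLaw.cls_pullback g hL).trans hd)⟩

end Groth.Agent.LefPic
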