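import Groth.Agent.LefPic.Lift
import Groth.Agent.LefPic.Para

/-!
# Picard groups and the effective Lefschetz condition
-/

set_option autoImplicit false
set_option backward.isDefEq.respectTransparency false

universe u

open CategoryTheory CategoryTheory.Limits AlgebraicGeometry Opposite TopologicalSpace
open Groth.Agent
open scoped Groth.Agent.PicLaw

noncomputable section

namespace Groth.Agent.LefPic

variable {X : Scheme.{u}} [IsLocallyNoetherian X] (𝓘 : X.IdealSheafData) (p : ℕ) (h : LefX.LeffCond X 𝓘)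
  (hH : ∀ n : ℕ, p ≤ n → ∀ i : ℕ, (i = 1 ∨ i = 2) →
    Subsingleton (Coh.HH X (kernel (Lef.quotMap (Lef.pow_succ_le 𝓘 n))) i))
  (hpara : ∀ U : X.Opens, (𝓘.support : Set X) ⊆ (U : Set X) → ∀ x : X, x ∉ U →
    ParaF.IsParafactorialLocalRing (X.presheaf.stalk x))
include h hH hpara

theorem bijective_thick (n : ℕ) (hn : p ≤ n) :
    (∀ c, PicLaw.pl (𝓘 ^ (n + 1)).subschemeι c = 1 → c = 1) ∧
      Function.Surjective (PicLaw.pl (𝓘 ^ (n + 1)).subschemeι) := by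
  refine ⟨fun c hc => ?_, fun a => ?_⟩
  · have hW : (𝓘.support : Set X) ⊆ ((⊤ : X.Opens) : Set X) := fun _ _ => trivial
    obtain ⟨g, hg⟩ := exists_toNhd 𝓘 ⊤ hW n
    obtain ⟨q, -, hq⟩ := exists_compare 𝓘 ⊤ hW n g hg
    have h1 := eq_one_of_thick 𝓘 h.1 p (fun k hk => hH k hk 1 (Or.inl rfl)) ⊤ hW n hn
      (PicLaw.pl (⊤ : X.Opens).ι c) (by
        rw [← PicLaw.pl_comp, PicLaw.pl_congr (show ((𝓘.comap (⊤ : X.Opens).ι) ^ (n + 1)).subschemeι ≫
          (⊤ : X.Opens).ι = q ≫ (𝓘 ^ (n + 1)).subschemeι by rw [← hq, Category.assoc, hg]),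
          PicLaw.pl_comp, hc, map_one])
    haveI : IsIso (⊤ : X.Opens).ι := inferInstanceAs (IsIso X.topIso.hom)
    exact (pl_bijective_of_isIso (⊤ : X.Opens).ι).1 (h1.trans (map_one _).symm)
  · obtain ⟨V, hV, d, hd⟩ := exists_algebraization 𝓘 h p (fun k hk => hH k hk 2 (Or.inr rfl)) n hn a
    obtain ⟨g, hg⟩ := exists_toNhd 𝓘 V hV n
    obtain ⟨d', rfl⟩ := (pl_bijective_of_parafactorial V (hpara V hV)).2 d
    exact ⟨d', by rw [← PicLaw.pl_congr hg, PicLaw.pl_comp]; exact hd g hg⟩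

theorem bijective_open (n : ℕ) (hn : p ≤ n) (U : X.Opens) (hU : (𝓘.support : Set X) ⊆ (U : Set X)) :
    Function.Bijective (PicLaw.pl U.ι) ∧
      (∀ c, PicLaw.pl ((𝓘.comap U.ι) ^ (n + 1)).subschemeι c = 1 → c = 1) ∧
      Function.Surjective (PicLaw.pl ((𝓘.comap U.ι) ^ (n + 1)).subschemeι) := by
  refine ⟨pl_bijective_of_parafactorial U (hpara U hU),
    eq_one_of_thick 𝓘 h.1 p (fun k hk => hH k hk 1 (Or.inl rfl)) U hU n hn, fun a => ?_⟩
  obtain ⟨g, hg⟩ := exists_toNhd 𝓘 U hU n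
  obtain ⟨q, hqi, hq⟩ := exists_compare 𝓘 U hU n g hg
  haveI := hqi
  obtain ⟨b, rfl⟩ := (pl_bijective_of_isIso q).2 a
  obtain ⟨d, rfl⟩ := (bijective_thick 𝓘 p h hH hpara n hn).2 b
  refine ⟨PicLaw.pl U.ι d, ?_⟩
  rw [← PicLaw.pl_comp, ← PicLaw.pl_comp]
  exact PicLaw.pl_congr (by rw [← hq, Category.assoc, hg]) d

end Groth.Agent.LefPic
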