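import Groth.Agent.ParaFormal.Bridge
import Groth.Agent.FEtCat.Lef.QuasiAffine
import Groth.Agent.IdealSh.Comap
import Groth.Agent.S2946

/-!
# The Lefschetz comparison on the punctured spectrum, `gr_J A` free with `depth A/J ≥ 3`
-/

set_option autoImplicit false
set_option backward.isDefEq.respectTransparency false
set_option backward.isDefEq.respectTransparency.types false

universe u

open CategoryTheory CategoryTheory.Limits AlgebraicGeometry TopologicalSpace Opposite
open Groth.Agent Groth.Agent.QCoh Groth.Agent.Props.GenLocus Groth.Agent.ParaFormal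
open Groth.Agent.ParaFLib Groth.Agent.ParaFLib.OpenData

noncomputable section

namespace Groth.Agent.LefPic.Punctured

variable {A : Type u} [CommRing A] [IsLocalRing A] [IsNoetherianRing A]

local notation "W" => FEt.puncturedSpec A

theorem app_rres' {X Y : Scheme.{u}} (g : X ⟶ Y) {U V : Y.Opens} (h : V ≤ U) (a : Γ(Y, U)) :
    g.app V (rres h a) = rres (g.preimage_mono h) (g.app U a) := by
  rw [← CommRingCat.comp_apply, ← CommRingCat.comp_apply]
  exact DFunLike.congr_fun (congrArg CommRingCat.Hom.hom (g.naturality (homOfLE h).op)) a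

/-- Constants on the punctured spectrum. -/
def cst : A →+* Γ((W : Scheme.{u}), ⊤) :=
  ((Scheme.ΓSpecIso (CommRingCat.of A)).inv ≫ (W).ι.appTop).hom

theorem Dop_le {g : A} (hg : g ∈ IsLocalRing.maximalIdeal A) : Dop g ≤ W := fun x hx => by
  intro h
  have hx' : g ∉ (x : PrimeSpectrum A).asIdeal := hx
  rw [show (x : PrimeSpectrum A) = IsLocalRing.closedPoint A from h] at hx'
  exact hx' hg

/-- The localization at `g` as functions on the corresponding open of the punctured spectrum. -/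
def phi (g : A) : Loc g →+* Γ((W : Scheme.{u}), (W).ι ⁻¹ᵁ Dop g) :=
  ((W).ι.app (Dop g)).hom.comp (psi g (le_refl (Dop g)))

theorem phi_bijective {g : A} (hg : g ∈ IsLocalRing.maximalIdeal A) : Function.Bijective (phi g) :=
  (bijective_app_ι (Dop_le hg)).comp (psi_bijective g le_rfl le_rfl)

theorem phi_algebraMap (g : A) (a : A) :
    phi g (algebraMap A (Loc g) a) = rres (le_top : (W).ι ⁻¹ᵁ Dop g ≤ ⊤) (cst a) := by
  show (W).ι.app (Dop g) (psi g (le_refl (Dop g)) (algebraMap A (Loc g) a)) = _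
  rw [psi_algebraMap, algebraMap_eq]
  exact app_rres' (W).ι (le_top : Dop g ≤ ⊤) _

theorem phi_ρ {a b : A} (hab : a ∣ b) (h : Dop b ≤ Dop a) (x : Loc a) :
    phi b (ρ hab x) = rres ((W).ι.preimage_mono h) (phi a x) := by
  show (W).ι.app (Dop b) (psi b le_rfl (ρ hab x)) = rres _ ((W).ι.app (Dop a) (psi a le_rfl x))
  rw [← app_rres' (W).ι h, psi_ρ hab le_rfl h, rres_psi]

theorem isAffineOpen_Dop (g : A) : IsAffineOpen (Dop g) :=
  IsAffineOpen.Spec_basicOpen (R := CommRingCat.of A) g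

theorem isAffineOpen_pre {g : A} (hg : g ∈ IsLocalRing.maximalIdeal A) :
    IsAffineOpen ((W).ι ⁻¹ᵁ Dop g) :=
  (isAffineOpen_Dop g).preimage_of_isOpenImmersion (W).ι (by
    rw [Scheme.Opens.opensRange_ι]; exact Dop_le hg)

variable (J : Ideal A)

/-- The ideal sheaf of `J` on the punctured spectrum. -/
abbrev JW : (W : Scheme.{u}).IdealSheafData :=
  (Spec.map (CommRingCat.ofHom (Ideal.Quotient.mk J))).ker.comap (W).ι

theorem ker_ideal (g : A) :
    (Spec.map (CommRingCat.ofHom (Ideal.Quotient.mk J))).ker.ideal ⟨Dop g, isAffineOpen_Dop g⟩ =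
      J.map (algebraMap A Γ(Spec (CommRingCat.of A), Dop g)) := by
  let s := Spec.map (CommRingCat.ofHom (Ideal.Quotient.mk J))
  have htop : s.ker.ideal ⟨⊤, isAffineOpen_top _⟩ = J.map (Scheme.ΓSpecIso (CommRingCat.of A)).inv.hom := by
    rw [Scheme.Hom.ker_apply]
    ext x
    obtain ⟨a, rfl⟩ := (ConcreteCategory.bijective_of_isIso (Scheme.ΓSpecIso (CommRingCat.of A)).inv).2 x
    rw [RingHom.mem_ker, Ideal.mem_map_iff_of_surjective _
      (ConcreteCategory.bijective_of_isIso (Scheme.ΓSpecIso (CommRingCat.of A)).inv).2]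
    have hnat : s.appTop ((Scheme.ΓSpecIso (CommRingCat.of A)).inv a) =
        (Scheme.ΓSpecIso (CommRingCat.of (A ⧸ J))).inv (Ideal.Quotient.mk J a) :=
      (congr($(Scheme.ΓSpecIso_inv_naturality (CommRingCat.ofHom (Ideal.Quotient.mk J))) a)).symm
    change s.appTop ((Scheme.ΓSpecIso (CommRingCat.of A)).inv a) = 0 ↔ _
    rw [hnat]
    constructor
    · intro h
      refine ⟨a, Ideal.Quotient.eq_zero_iff_mem.1 ?_, rfl⟩
      exact (ConcreteCategory.bijective_of_isIso (Scheme.ΓSpecIso (CommRingCat.of (A ⧸ J))).inv).1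
        (h.trans (map_zero _).symm)
    · rintro ⟨b, hb, hba⟩
      rw [← (ConcreteCategory.bijective_of_isIso (Scheme.ΓSpecIso (CommRingCat.of A)).inv).1 hba,
        Ideal.Quotient.eq_zero_iff_mem.2 hb]
      exact map_zero _
  rw [← Scheme.IdealSheafData.map_ideal _ (U := ⟨Dop g, isAffineOpen_Dop g⟩) (V := ⟨⊤, isAffineOpen_top _⟩)
    (show Dop g ≤ ⊤ from le_top), htop, Ideal.map_map, algebraMap_eq]
  rfl

/-- Vanishing modulo the `n`-th power, in the localization. -/
theorem toSub_phi_eq_zero_iff {g : A} (hg : g ∈ IsLocalRing.maximalIdeal A) (k : ℕ) (z : Loc g) :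
    (ClSub.toSubscheme (JW J ^ k)).app ((W).ι ⁻¹ᵁ Dop g) (phi g z) = 0 ↔
      z ∈ (J ^ k).map (algebraMap A (Loc g)) := by
  rw [FEtCat.Lef.toSub_eq_zero_iff _ (isAffineOpen_pre hg)]
  have h : (JW J ^ k).ideal ⟨(W).ι ⁻¹ᵁ Dop g, isAffineOpen_pre hg⟩ =
      ((J ^ k).map (algebraMap A (Loc g))).map (phi g) := by
    rw [show JW J ^ k = ((Spec.map (CommRingCat.ofHom (Ideal.Quotient.mk J))).ker ^ k).comap (W).ι from
        (IdealSh.Comap.comap_pow _ _ _).symm,
      IdealSh.Comap.ideal_comap _ (W).ι ⟨Dop g, isAffineOpen_Dop g⟩ ⟨_, isAffineOpen_pre hg⟩ le_rfl]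
    simp only [Scheme.IdealSheafData.ideal_pow, Pi.pow_apply]
    rw [ker_ideal, ← Ideal.map_pow, Ideal.map_map, Ideal.map_map, Scheme.Hom.appLE_eq_app]
    congr 1
    refine RingHom.ext fun a => ?_
    show (W).ι.app (Dop g) (algebraMap A Γ(Spec (CommRingCat.of A), Dop g) a) =
      (W).ι.app (Dop g) (psi g le_rfl (algebraMap A (Loc g) a))
    rw [psi_algebraMap]
  rw [h, Ideal.mem_map_iff_of_surjective _ (phi_bijective hg).2]
  exact ⟨fun ⟨z', hz', e⟩ => (phi_bijective hg).1 e ▸ hz', fun hz => ⟨z, hz, rfl⟩⟩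

variable [IsLocalRing (A ⧸ J)]

/-- The hypotheses, packaged in Čech form. -/
theorem exists_cech (hJ : J ≠ ⊤) (hd : (3 : ℕ∞) ≤ LocCoh.depth (A ⧸ J) (A ⧸ J))
    (hgr : ∀ n : ℕ, Module.Free (A ⧸ J) (↥(J ^ n) ⧸ (J • (⊤ : Submodule A ↥(J ^ n))))) :
    ∃ (ι : Type u) (_ : Fintype ι) (f : ι → A), (∀ i, f i ∈ IsLocalRing.maximalIdeal A) ∧
      W ≤ iSup (fun i => Dop (f i)) ∧ (∀ k, Sep f (J ^ k)) ∧ (∀ k, Glue f (J ^ k)) ∧
      Sep f ⊥ ∧ Glue f ⊥ := by
  obtain ⟨G, hG⟩ := exists_grData J hgr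
  obtain ⟨x, y, z, hx, hy, -, h1, h2, -⟩ := exists_regMod_triple J hJ hd
  obtain ⟨S, hS⟩ := (inferInstance : IsNoetherianRing A).noetherian (IsLocalRing.maximalIdeal A)
  let f : (↑(S : Set A) : Type u) → A := fun i => i.1
  have hspan : Ideal.span (Set.range f) = IsLocalRing.maximalIdeal A := by
    rw [show Set.range f = (S : Set A) from Subtype.range_coe]; exact hS
  have hmem : ∀ {w : A}, w ∈ IsLocalRing.maximalIdeal A → w ∈ (Ideal.span (Set.range f)).radical := fun hw =>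
    Ideal.le_radical (hspan.ge hw)
  have hx0 : RegMod ((⊥ : Ideal A) ⊔ J) x := by rwa [bot_sup_eq]
  have hy0 : RegMod ((⊥ : Ideal A) ⊔ Ideal.span {x} ⊔ J) y := by rwa [bot_sup_eq, sup_comm]
  refine ⟨_, inferInstance, f, fun i => hspan.le (Ideal.subset_span ⟨i, rfl⟩), fun p hp => ?_,
    fun k => sep_of_regMod (hmem hx) ?_, fun k => glue_of_regMod (hmem hx) (hmem hy) ?_ ?_,
    sep_of_regMod (hmem hx) (G.regMod hJ hG hx0),
    glue_of_regMod (hmem hx) (hmem hy) (G.regMod hJ hG hx0) (G.regMod hJ (G.indep_sup hG hx0) hy0)⟩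
  · by_contra hcon
    refine hp (PrimeSpectrum.ext ((IsLocalRing.maximalIdeal.isMaximal A).eq_of_le
      (p : PrimeSpectrum A).isPrime.ne_top ?_).symm)
    rw [← hspan, Ideal.span_le]
    rintro _ ⟨i, rfl⟩
    by_contra hi
    exact hcon (Opens.mem_iSup.2 ⟨i, hi⟩)
  · simpa using G.regMod_pow hG hx0 k
  · simpa using G.regMod_pow hG hx0 k
  · have := G.regMod_pow (G.indep_sup hG hx0) hy0 k
    rwa [bot_sup_eq, sup_comm] at this

/-- Global functions on the punctured spectrum, and the Lefschetz comparison for them. -/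
theorem lef_structureModule (hJ : J ≠ ⊤) (hd : (3 : ℕ∞) ≤ LocCoh.depth (A ⧸ J) (A ⧸ J))
    (hgr : ∀ n : ℕ, Module.Free (A ⧸ J) (↥(J ^ n) ⧸ (J • (⊤ : Submodule A ↥(J ^ n))))) [IsAdicComplete J A] :
    Function.Bijective (cst (A := A)) ∧ Lef.HomToFormalBijective (JW J) (Coh.structureModule _) := by
  obtain ⟨ι, _, f, hf, hcov, hsep, hglue, hsep0, hglue0⟩ := exists_cech J hJ hd hgr
  let V : ι → (W : Scheme.{u}).Opens := fun i => (W).ι ⁻¹ᵁ Dop (f i)
  have hV : (⊤ : (W : Scheme.{u}).Opens) ≤ iSup V := fun p _ => by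
    obtain ⟨i, hi⟩ := Opens.mem_iSup.1 (hcov p.2)
    exact Opens.mem_iSup.2 ⟨i, hi⟩
  have hle : ∀ i j, Dop (f i * f j) ≤ Dop (f i) ∧ Dop (f i * f j) ≤ Dop (f j) := fun i j => by
    rw [Dop_mul]; exact ⟨inf_le_left, inf_le_right⟩
  have hfm : ∀ i j, f i * f j ∈ IsLocalRing.maximalIdeal A := fun i j => Ideal.mul_mem_right _ _ (hf i)
  -- differences on the overlaps
  have hres : ∀ (d : ∀ i, Loc (f i)) i j,
      phi (f i * f j) (ρ (dvd_mul_right (f i) (f j)) (d i) - ρ (dvd_mul_left (f j) (f i)) (d j)) =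
        rres ((W).ι.preimage_mono (hle i j).1) (phi (f i) (d i)) -
          rres ((W).ι.preimage_mono (hle i j).2) (phi (f j) (d j)) := fun d i j => by
    rw [map_sub, phi_ρ _ (hle i j).1, phi_ρ _ (hle i j).2]
  have hcst : Function.Bijective (cst (A := A)) := by
    refine ⟨fun a b hab => sub_eq_zero.1 ((Submodule.mem_bot A).1 (hsep0 _ fun i => ?_)), fun s => ?_⟩
    · rw [Ideal.map_bot, Submodule.mem_bot]
      apply (phi_bijective (hf i)).1
      rw [phi_algebraMap, map_sub, hab, sub_self, map_zero, map_zero]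
    · choose d hd using fun i => (phi_bijective (hf i)).2 (rres (le_top : V i ≤ ⊤) s)
      obtain ⟨a, ha⟩ := hglue0 d fun i j => by
        rw [Ideal.map_bot, Submodule.mem_bot]
        apply (phi_bijective (hfm i j)).1
        rw [hres, hd, hd, map_zero, rres_rres, rres_rres, sub_self]
      refine ⟨a, eq_of_locally_eq (Coh.structureModule (W : Scheme.{u})) (fun i => (le_top : V i ≤ ⊤)) hV _ _
        fun i => ?_⟩
      have h := ha i
      rw [Ideal.map_bot, Submodule.mem_bot, sub_eq_zero] at h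
      show rres (le_top : V i ≤ ⊤) (cst a) = rres (le_top : V i ≤ ⊤) s
      rw [← phi_algebraMap, ← h, hd]
  -- congruences from vanishing on all pieces
  have hmem : ∀ (a : A) (k : ℕ),
      (∀ i, (ClSub.toSubscheme (JW J ^ k)).app (V i) (rres (le_top : V i ≤ ⊤) (cst a)) = 0) → a ∈ J ^ k :=
    fun a k h => hsep k a fun i => by
      rw [← toSub_phi_eq_zero_iff J (hf i) k, phi_algebraMap]
      exact h i
  refine ⟨hcst, fun φ ψ hφψ => ?_, fun y hy => ?_⟩
  · refine S2946.hom_ext_one _ _ ?_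
    obtain ⟨a, ha⟩ := hcst.2 (φ.app ⊤ (1 : Γ((W : Scheme.{u}), ⊤)))
    obtain ⟨b, hb⟩ := hcst.2 (ψ.app ⊤ (1 : Γ((W : Scheme.{u}), ⊤)))
    rw [← ha, ← hb]
    refine congrArg _ (sub_eq_zero.1 (IsHausdorff.haus (I := J) inferInstance (a - b) fun k => ?_))
    rw [SModEq.zero, smul_eq_mul, Ideal.mul_top]
    refine Ideal.pow_le_pow_right (Nat.le_succ k) (hmem _ _ fun i => ?_)
    rw [map_sub, map_sub, ha, hb]
    refine (map_sub ((ClSub.toSubscheme (JW J ^ (k + 1))).app (V i)).hom _ _).trans (sub_eq_zero.2 ?_)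
    refine (app_res (ClSub.toSubscheme (JW J ^ (k + 1))) le_top _).trans
      (Eq.trans ?_ (app_res (ClSub.toSubscheme (JW J ^ (k + 1))) le_top _).symm)
    exact congrArg (res _ le_top) (congr(Scheme.Modules.Hom.app $(hφψ k) ⊤ (1 : Γ((W : Scheme.{u}), ⊤))))
  · let e : ∀ n, Γ(ClSub.quotMod (JW J ^ (n + 1)), ⊤) := fun n => (y n).app ⊤ (1 : Γ((W : Scheme.{u}), ⊤))
    have hlift : ∀ n i, ∃ d : Loc (f i),
        (ClSub.toSubscheme (JW J ^ (n + 1))).app (V i) (phi (f i) d) = res _ (le_top : V i ≤ ⊤) (e n) := fun n i => by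
      obtain ⟨s, hs⟩ := ((JW J ^ (n + 1)).subschemeι.app_surjective (V i) (isAffineOpen_pre (hf i)))
        (res _ (le_top : V i ≤ ⊤) (e n))
      obtain ⟨d, rfl⟩ := (phi_bijective (hf i)).2 s
      exact ⟨d, hs⟩
    choose d hd using hlift
    have hag : ∀ n, ∃ a : A, ∀ i, d n i - algebraMap A (Loc (f i)) a ∈ (J ^ (n + 1)).map (algebraMap A (Loc (f i))) :=
      fun n => hglue (n + 1) (d n) fun i j => by
        rw [← toSub_phi_eq_zero_iff J (hfm i j) (n + 1), hres]
        refine (map_sub ((ClSub.toSubscheme (JW J ^ (n + 1))).app _).hom _ _).trans (sub_eq_zero.2 ?_)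
        refine (app_res (ClSub.toSubscheme (JW J ^ (n + 1))) ((W).ι.preimage_mono (hle i j).1) _).trans
          (Eq.trans ?_ (app_res (ClSub.toSubscheme (JW J ^ (n + 1))) ((W).ι.preimage_mono (hle i j).2) _).symm)
        rw [hd, hd, res_res, res_res]
    choose a ha using hag
    have hae : ∀ n i, (ClSub.toSubscheme (JW J ^ (n + 1))).app (V i) (rres (le_top : V i ≤ ⊤) (cst (a n))) =
        res _ (le_top : V i ≤ ⊤) (e n) := fun n i => by
      have h := (toSub_phi_eq_zero_iff J (hf i) (n + 1) _).2 (ha n i)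
      rw [map_sub, phi_algebraMap] at h
      have h' := sub_eq_zero.1 ((map_sub ((ClSub.toSubscheme (JW J ^ (n + 1))).app (V i)).hom _ _).symm.trans h)
      exact h'.symm.trans (hd n i)
    have hstep : ∀ n, a (n + 1) - a n ∈ J ^ (n + 1) := fun n => hmem _ _ fun i => by
      rw [map_sub, map_sub]
      refine (map_sub ((ClSub.toSubscheme (JW J ^ (n + 1))).app (V i)).hom _ _).trans (sub_eq_zero.2 ?_)
      refine Eq.trans ?_ (hae n i).symm
      rw [← FEtCat.Lef.toSub_comp_quotMap (_root_.Lef.pow_succ_le (JW J) n)]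
      refine (congrArg ((_root_.Lef.quotMap (_root_.Lef.pow_succ_le (JW J) n)).app (V i)) (hae (n + 1) i)).trans ?_
      rw [app_res]
      exact congrArg (res _ le_top) (congr(Scheme.Modules.Hom.app $(hy n) ⊤ (1 : Γ((W : Scheme.{u}), ⊤))))
    have hcauchy : ∀ {m n}, m ≤ n → a m ≡ a n [SMOD (J ^ m • ⊤ : Submodule A A)] := fun {m n} hmn => by
      rw [SModEq.sub_mem, smul_eq_mul, Ideal.mul_top]
      induction n, hmn using Nat.le_induction with
      | base => simp
      | succ n hmn ih =>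
        have := sub_mem ih (Ideal.pow_le_pow_right (hmn.trans (Nat.le_succ n)) (hstep n))
        simpa using this
    obtain ⟨L, hL⟩ := IsPrecomplete.prec (I := J) inferInstance hcauchy
    refine ⟨homOfSec (L := Coh.structureModule (W : Scheme.{u})) (cst L), fun n => S2946.hom_ext_one _ _ ?_⟩
    rw [Scheme.Modules.Hom.comp_app, ConcreteCategory.comp_apply, S2946.app_one_homOfSec]
    refine eq_of_locally_eq _ (fun i => (le_top : V i ≤ ⊤)) hV _ _ fun i => ?_
    rw [← app_res]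
    refine Eq.trans ?_ (hae n i)
    show (ClSub.toSubscheme (JW J ^ (n + 1))).app (V i) (rres (le_top : V i ≤ ⊤) (cst L)) = _
    refine sub_eq_zero.1 ((map_sub ((ClSub.toSubscheme (JW J ^ (n + 1))).app (V i)).hom _ _).symm.trans ?_)
    show (ClSub.toSubscheme (JW J ^ (n + 1))).app (V i)
      (rres (le_top : V i ≤ ⊤) (cst L) - rres (le_top : V i ≤ ⊤) (cst (a n)) : Γ((W : Scheme.{u}), V i)) = 0
    rw [← map_sub, ← map_sub, ← phi_algebraMap, toSub_phi_eq_zero_iff J (hf i)]
    refine Ideal.mem_map_of_mem _ ?_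
    have h1 := hL (n + 1)
    rw [SModEq.sub_mem, smul_eq_mul, Ideal.mul_top] at h1
    have h2 := sub_mem (neg_mem h1) (neg_mem (hstep n))
    have e : L - a n = -(a (n + 1) - L) - -(a (n + 1) - a n) := by ring
    rw [e]; exact h2

end Groth.Agent.LefPic.Punctured
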