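import Groth.Prelude.Def_Lef
import Groth.Agent.S14629
import Groth.Agent.S19504
import Groth.Agent.EulerChar.Cartier
import Groth.Agent.EulerChar.Push
import Groth.Agent.AmpleLib.Ideal
import Groth.Agent.IdealSh.Comap
import Groth.Agent.Adic.ComplAlong
import Groth.Agent.ExtHom.Compare
import Groth.Agent.PicLaw.Calc

/-!
# The thickenings of `Y` inside an open neighbourhood

`LefPic.step`: if `H¹(X, 𝓘^{k+1}/𝓘^{k+2}) = 0` and `V(𝓘) ⊆ U` then, for the thickenings
`Y_k ⊆ Y_{k+1}` inside `U`, restriction is injective on Picard groups and surjective on functions.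
-/

set_option autoImplicit false
set_option backward.isDefEq.respectTransparency false

universe u

open CategoryTheory CategoryTheory.Limits AlgebraicGeometry Opposite TopologicalSpace Abelian
open Groth.Agent
open scoped Groth.Agent.PicLaw

noncomputable section

namespace Groth.Agent.LefPic

variable {X A B : Scheme.{u}}

theorem unitToPush_fac {W Z : Scheme.{u}} (t : Z ⟶ W) (i : W ⟶ X) {g : Z ⟶ X} (e : t ≫ i = g) :
    ClSub.unitToPush i ≫ (Scheme.Modules.pushforward i).map (ClSub.unitToPush t) ≫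
      (Scheme.Modules.pushforwardComp t i).hom.app _ ≫ (Scheme.Modules.pushforwardCongr e).hom.app _ =
        ClSub.unitToPush g := by
  subst e
  refine Scheme.Modules.hom_ext _ _ fun U => ?_
  ext s
  simp
  rfl

theorem toSub_comp_quotMap {I I' : X.IdealSheafData} (h : I ≤ I') :
    ClSub.toSubscheme I ≫ Lef.quotMap h = ClSub.toSubscheme I' :=
  unitToPush_fac _ _ (Scheme.IdealSheafData.inclusion_subschemeι h)

theorem quotMap_comp {I J K : X.IdealSheafData} (h₁ : I ≤ J) (h₂ : J ≤ K) :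
    Lef.quotMap h₁ ≫ Lef.quotMap h₂ = Lef.quotMap (h₁.trans h₂) := by
  haveI : Epi (ClSub.toSubscheme I) := EulerChar.epi_toSubscheme I
  rw [← cancel_epi (ClSub.toSubscheme I), ← Category.assoc, toSub_comp_quotMap, toSub_comp_quotMap,
    toSub_comp_quotMap]

theorem quotMap_refl {I : X.IdealSheafData} (h : I ≤ I) : Lef.quotMap h = 𝟙 _ := by
  haveI : Epi (ClSub.toSubscheme I) := EulerChar.epi_toSubscheme I
  rw [← cancel_epi (ClSub.toSubscheme I), toSub_comp_quotMap, Category.comp_id]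

/-- The standard presentation of the direct image of the structure sheaf of a closed subscheme. -/
theorem exists_theta (g : A ⟶ X) [IsClosedImmersion g] :
    ∃ θ : ClSub.quotMod g.ker ≅ (Scheme.Modules.pushforward g).obj (Coh.structureModule A),
      ClSub.toSubscheme g.ker ≫ θ.hom = ClSub.unitToPush g := by
  let t : A ⟶ g.ker.subscheme := g.toImage
  haveI : IsIso t := inferInstanceAs (IsIso g.toImage)
  haveI : IsIso (ClSub.unitToPush t) := by
    rw [Scheme.Modules.Hom.isIso_iff_isIso_app]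
    intro U
    exact (ConcreteCategory.isIso_iff_bijective _).2 (ConcreteCategory.bijective_of_isIso (t.app U))
  exact ⟨(Scheme.Modules.pushforward g.ker.subschemeι).mapIso (asIso (ClSub.unitToPush t)) ≪≫
    (Scheme.Modules.pushforwardComp t g.ker.subschemeι).app _ ≪≫
    (Scheme.Modules.pushforwardCongr g.toImage_imageι).app _, unitToPush_fac t _ g.toImage_imageι⟩

theorem epi_unitToPush (g : A ⟶ X) [IsClosedImmersion g] : Epi (ClSub.unitToPush g) := by
  obtain ⟨θ, hθ⟩ := exists_theta g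
  haveI : Epi (ClSub.toSubscheme g.ker) := EulerChar.epi_toSubscheme g.ker
  rw [← hθ]
  infer_instance

theorem exists_kerIso (g : A ⟶ X) [IsClosedImmersion g] :
    Nonempty (kernel (ClSub.unitToPush g) ≅ ClSub.idealMod g.ker) := by
  obtain ⟨θ, hθ⟩ := exists_theta g
  exact ⟨kernelIsoOfEq hθ.symm ≪≫ kernelCompMono _ θ.hom⟩

/-- Transfer of the vanishing to the bigger closed subscheme. -/
theorem subsingleton_ideal (a : A ⟶ X) (j : B ⟶ A) [IsClosedImmersion a] [IsClosedImmersion j]
    {I I' : X.IdealSheafData} (h : I ≤ I') (hI : a.ker = I) (hI' : (j ≫ a).ker = I') (q : ℕ)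
    (hv : Subsingleton (Coh.HH X (kernel (Lef.quotMap h)) q)) :
    Subsingleton (Coh.HH A (ClSub.idealMod j.ker) q) := by
  subst hI hI'
  obtain ⟨θ, hθ⟩ := exists_theta a
  obtain ⟨θ', hθ'⟩ := exists_theta (j ≫ a)
  obtain ⟨e⟩ := exists_kerIso j
  let v := (Scheme.Modules.pushforward a).map (ClSub.unitToPush j)
  let c : (Scheme.Modules.pushforward a).obj ((Scheme.Modules.pushforward j).obj (Coh.structureModule B)) ≅
      (Scheme.Modules.pushforward (j ≫ a)).obj (Coh.structureModule B) := (Scheme.Modules.pushforwardComp j a).app _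
  have hc : ClSub.unitToPush (j ≫ a) = ClSub.unitToPush a ≫ v ≫ c.hom := by
    refine Scheme.Modules.hom_ext _ _ fun U => ?_
    ext s
    rfl
  haveI : Epi (ClSub.toSubscheme a.ker) := EulerChar.epi_toSubscheme a.ker
  have hsq : Lef.quotMap h ≫ (θ' ≪≫ c.symm).hom = θ.hom ≫ v := by
    rw [← cancel_epi (ClSub.toSubscheme a.ker), Iso.trans_hom, ← Category.assoc, toSub_comp_quotMap,
      reassoc_of% hθ, ← Category.assoc, hθ', hc, Category.assoc, Category.assoc, Iso.symm_hom,
      Iso.hom_inv_id, Category.comp_id]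
  let k : kernel (Lef.quotMap h) ≅ (Scheme.Modules.pushforward a).obj (ClSub.idealMod j.ker) :=
    kernel.mapIso (Lef.quotMap h) v θ (θ' ≪≫ c.symm) hsq ≪≫
      (PreservesKernel.iso (Scheme.Modules.pushforward a) (ClSub.unitToPush j)).symm ≪≫
        (Scheme.Modules.pushforward a).mapIso e
  haveI h1 : Subsingleton (Coh.HH X ((Scheme.Modules.pushforward a).obj (ClSub.idealMod j.ker)) q) :=
    (CohLin.hIso k q).toEquiv.symm.subsingleton
  letI : X.Over (Spec (CommRingCat.of (ULift.{u} ℤ))) := ⟨specULiftZIsTerminal.from X⟩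
  letI : A.Over (Spec (CommRingCat.of (ULift.{u} ℤ))) := ⟨specULiftZIsTerminal.from A⟩
  obtain ⟨E⟩ := EulerChar.nonempty_pushEquiv a (A := ULift.{u} ℤ) (specULiftZIsTerminal.hom_ext _ _)
    (ClSub.idealMod j.ker) (AmpleLib.isQCoh_idealMod j.ker) q
  exact E.symm.toEquiv.subsingleton

/-- A square-zero closed immersion with vanishing `H¹` of the ideal. -/
theorem sq_zero_step (j : B ⟶ A) [IsClosedImmersion j] (hJ : j.ker * j.ker = ⊥)
    (hv : Subsingleton (Coh.HH A (ClSub.idealMod j.ker) 1)) :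
    (∀ c : PicLoc.PicSet A, PicLaw.pl j c = 1 → c = 1) ∧
      ∀ σ : Coh.structureModule A ⟶ (Scheme.Modules.pushforward j).obj (Coh.structureModule B),
        ∃ τ : Coh.structureModule A ⟶ Coh.structureModule A, τ ≫ ClSub.unitToPush j = σ := by
  refine ⟨fun c hc => ?_, fun σ => ?_⟩
  · have h : PicLaw.pl j.ker.subschemeι c = 1 := by
      have hi : inv j.toImage ≫ j = j.ker.subschemeι := by
        rw [IsIso.inv_comp_eq]; exact j.toImage_imageι.symm
      rw [← PicLaw.pl_congr hi, PicLaw.pl_comp, hc, map_one]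
    have hcl : PicF.pullCl j.ker.subschemeι c.1 =
        PicF.pullCl j.ker.subschemeι (1 : PicLoc.PicSet A).1 :=
      congrArg Subtype.val (h.trans (map_one (PicLaw.pl j.ker.subschemeι)).symm)
    exact Subtype.ext
      (S14629.result A j.ker hJ hv c.1 (1 : PicLoc.PicSet A).1 c.2 (1 : PicLoc.PicSet A).2 hcl)
  · obtain ⟨θ₀, hθ₀⟩ := ExtHom.exists_constUnit (Opens.grothendieckTopology A) A.ringCatSheaf
    let O := Coh.structureModule A
    let e : ∀ N : A.Modules, (O ⟶ N) ≃ Coh.HH A N 0 := fun N =>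
      (Equiv.ofBijective _ (hθ₀ N)).trans Ext.homEquiv₀.symm
    have he : ∀ {N N' : A.Modules} (φ : N ⟶ N') (g : O ⟶ N),
        e N' (g ≫ φ) = CohLin.hMap φ 0 (e N g) := by
      intro N N' φ g
      show Ext.mk₀ (θ₀ ≫ (SheafOfModules.toSheaf A.ringCatSheaf).map (g ≫ φ)) =
        (Ext.mk₀ (θ₀ ≫ (SheafOfModules.toSheaf A.ringCatSheaf).map g)).comp (Ext.mk₀ (CohLin.abMap φ)) (add_zero 0)
      refine Eq.trans ?_ (Ext.mk₀_comp_mk₀ _ _).symm
      refine congrArg Ext.mk₀ ?_
      rw [Functor.map_comp, Category.assoc]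
      rfl
    haveI := epi_unitToPush j
    obtain ⟨ek⟩ := exists_kerIso j
    let S : ShortComplex A.Modules :=
      ShortComplex.mk (kernel.ι (ClSub.unitToPush j)) (ClSub.unitToPush j) (kernel.condition _)
    have hS : S.ShortExact :=
      { exact := ShortComplex.exact_of_f_is_kernel S (kernelIsKernel _) }
    haveI : Subsingleton (Coh.HH A S.X₁ (0 + 1)) := (CohLin.hIso ek 1).toEquiv.subsingleton
    obtain ⟨y, hy⟩ := CohLin.exists_hMap_g_eq hS (e _ σ) (Subsingleton.elim _ _)
    refine ⟨(e O).symm y, (e _).injective ?_⟩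
    rw [he, Equiv.apply_symm_apply]
    exact hy

variable (𝓘 : X.IdealSheafData) (U : X.Opens) (hU : (𝓘.support : Set X) ⊆ (U : Set X))

theorem comap_self (I : X.IdealSheafData) : I.comap I.subschemeι = ⊥ := by
  refine le_bot_iff.1 (Scheme.IdealSheafData.le_map_iff_comap_le.1 ?_)
  rw [Scheme.IdealSheafData.map_bot, Scheme.IdealSheafData.ker_subschemeι]

include hU in
/-- The `k`-th thickening inside `U` is the `k`-th thickening. -/
theorem thick_ker (k : ℕ) :
    IsClosedImmersion (((𝓘.comap U.ι) ^ (k + 1)).subschemeι ≫ U.ι) ∧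
      (((𝓘.comap U.ι) ^ (k + 1)).subschemeι ≫ U.ι).ker = 𝓘 ^ (k + 1) := by
  rw [← IdealSh.Comap.comap_pow]
  let I := 𝓘 ^ (k + 1)
  let b := (I.comapIso U.ι).hom ≫ pullback.snd U.ι I.subschemeι
  haveI : IsIso (pullback.snd U.ι I.subschemeι) := by
    haveI : Surjective (pullback.snd U.ι I.subschemeι) := ⟨fun z => by
      have hz : I.subschemeι z ∈ Set.range U.ι := by
        rw [Scheme.Opens.range_ι]
        apply hU
        have := Set.mem_range_self (f := I.subschemeι) z
        rwa [Scheme.IdealSheafData.range_subschemeι, Scheme.IdealSheafData.support_pow_succ] at this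
      have hmem : z ∈ Set.range (pullback.snd U.ι I.subschemeι) := by
        rw [Scheme.Pullback.range_snd]
        exact hz
      exact hmem⟩
    haveI : Epi (pullback.snd U.ι I.subschemeι).base :=
      (TopCat.epi_iff_surjective _).2 (pullback.snd U.ι I.subschemeι).surjective
    exact IsOpenImmersion.isIso (pullback.snd U.ι I.subschemeι)
  have e : (I.comap U.ι).subschemeι ≫ U.ι = b ≫ I.subschemeι := by
    rw [← Scheme.IdealSheafData.comapIso_hom_fst I U.ι, Category.assoc, pullback.condition, Category.assoc]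
  rw [e]
  exact ⟨inferInstance, by rw [Scheme.Hom.ker_comp_of_isIso, Scheme.IdealSheafData.ker_subschemeι]⟩

include hU in
/-- The square-zero step. -/
theorem step (k : ℕ) (hv : Subsingleton (Coh.HH X (kernel (Lef.quotMap (Lef.pow_succ_le 𝓘 k))) 1)) :
    (∀ c : PicLoc.PicSet ((𝓘.comap U.ι) ^ (k + 2)).subscheme,
        PicLaw.pl (Scheme.IdealSheafData.inclusion (Lef.pow_succ_le (𝓘.comap U.ι) k)) c = 1 → c = 1) ∧
      ∀ σ : Coh.structureModule _ ⟶ (Scheme.Modules.pushforward
          (Scheme.IdealSheafData.inclusion (Lef.pow_succ_le (𝓘.comap U.ι) k))).obj (Coh.structureModule _),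
        ∃ τ, τ ≫ ClSub.unitToPush (Scheme.IdealSheafData.inclusion (Lef.pow_succ_le (𝓘.comap U.ι) k)) = σ := by
  let J := 𝓘.comap U.ι
  let j := Scheme.IdealSheafData.inclusion (Lef.pow_succ_le J k)
  obtain ⟨h1, e1⟩ := thick_ker 𝓘 U hU (k + 1)
  obtain ⟨h2, e2⟩ := thick_ker 𝓘 U hU k
  have hj : j ≫ (J ^ (k + 2)).subschemeι = (J ^ (k + 1)).subschemeι :=
    Scheme.IdealSheafData.inclusion_subschemeι _
  haveI : IsClosedImmersion (j ≫ (J ^ (k + 2)).subschemeι) := by rw [hj]; infer_instance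
  haveI : IsClosedImmersion j := IsClosedImmersion.of_comp j (J ^ (k + 2)).subschemeι
  haveI : IsClosedImmersion ((J ^ (k + 2)).subschemeι ≫ U.ι) := h1
  refine sq_zero_step j ?_ (subsingleton_ideal ((J ^ (k + 2)).subschemeι ≫ U.ι) j
    (Lef.pow_succ_le 𝓘 k) e1 ?_ 1 hv)
  · rw [Adic.ComplAlong.ker_inclusion, ← IdealSh.Comap.comap_mul, ← le_bot_iff,
      ← comap_self (J ^ (k + 2))]
    refine Scheme.IdealSheafData.comap_mono _ fun V => ?_
    simp only [Scheme.IdealSheafData.ideal_mul, Scheme.IdealSheafData.ideal_pow, Pi.mul_apply, Pi.pow_apply,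
      ← pow_add]
    exact Ideal.pow_le_pow_right (by omega)
  · rw [← Category.assoc, hj]
    exact e2

/-- Lifting invertible classes to the next thickening in `X`. -/
theorem surj_step (k : ℕ) (hv : Subsingleton (Coh.HH X (kernel (Lef.quotMap (Lef.pow_succ_le 𝓘 k))) 2))
    (c : PicLoc.PicSet (𝓘 ^ (k + 1)).subscheme) :
    ∃ d : PicLoc.PicSet (𝓘 ^ (k + 2)).subscheme,
      PicLaw.pl (Scheme.IdealSheafData.inclusion (Lef.pow_succ_le 𝓘 k)) d = c := by
  let j := Scheme.IdealSheafData.inclusion (Lef.pow_succ_le 𝓘 k)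
  have hj : j ≫ (𝓘 ^ (k + 2)).subschemeι = (𝓘 ^ (k + 1)).subschemeι :=
    Scheme.IdealSheafData.inclusion_subschemeι _
  haveI : IsClosedImmersion (j ≫ (𝓘 ^ (k + 2)).subschemeι) := by rw [hj]; infer_instance
  haveI : IsClosedImmersion j := IsClosedImmersion.of_comp j (𝓘 ^ (k + 2)).subschemeι
  have hsq : j.ker * j.ker = ⊥ := by
    rw [Adic.ComplAlong.ker_inclusion, ← IdealSh.Comap.comap_mul, ← le_bot_iff,
      ← comap_self (𝓘 ^ (k + 2))]
    refine Scheme.IdealSheafData.comap_mono _ fun V => ?_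
    simp only [Scheme.IdealSheafData.ideal_mul, Scheme.IdealSheafData.ideal_pow, Pi.mul_apply, Pi.pow_apply,
      ← pow_add]
    exact Ideal.pow_le_pow_right (by omega)
  have hv' := subsingleton_ideal (𝓘 ^ (k + 2)).subschemeι j (Lef.pow_succ_le 𝓘 k)
    (Scheme.IdealSheafData.ker_subschemeι _) (by rw [hj, Scheme.IdealSheafData.ker_subschemeι]) 2 hv
  let c' : PicLoc.PicSet j.ker.subscheme := PicLaw.pl (inv j.toImage) c
  obtain ⟨d, hd, hd'⟩ := S19504.result _ j.ker hsq hv' c'.1 c'.2
  refine ⟨⟨d, hd⟩, ?_⟩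
  have h1 : PicLaw.pl j.ker.subschemeι ⟨d, hd⟩ = c' := Subtype.ext hd'
  show PicLaw.pl j ⟨d, hd⟩ = c
  rw [← PicLaw.pl_congr j.toImage_imageι, PicLaw.pl_comp]
  show PicLaw.pl j.toImage (PicLaw.pl j.ker.subschemeι ⟨d, hd⟩) = c
  rw [h1, show c' = PicLaw.pl (inv j.toImage) c from rfl, ← PicLaw.pl_comp,
    PicLaw.pl_congr (IsIso.hom_inv_id j.toImage), PicLaw.pl_id]

end Groth.Agent.LefPic
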